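import Groth.Agent.EtStruct.PruferCoherent
import Mathlib

/-! Coherence of finitely presented algebras over Prüfer domains, module version. -/

universe u

open MvPolynomial

namespace Groth.Agent.PruferSerre

variable (R : Type u) [CommRing R] [IsDomain R]

/-- Finitely presented over a quotient algebra if over the source. -/
theorem finitePresentation_of_surjective_algebraMap {P S K : Type u} [CommRing P] [CommRing S] [Algebra P S]
    (h : Function.Surjective (algebraMap P S)) [AddCommGroup K] [Module S K] [Module P K] [IsScalarTower P S K]
    [Module.FinitePresentation P K] : Module.FinitePresentation S K := by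
  classical
  haveI : Module.Finite S K := Module.Finite.of_restrictScalars_finite P S K
  obtain ⟨s, p, hp⟩ := Module.Finite.exists_fin' S K
  let c : (Fin s → P) →ₗ[P] (Fin s → S) :=
    LinearMap.pi fun i => (Algebra.linearMap P S).comp (LinearMap.proj i)
  have hc : Function.Surjective c := fun v => by
    choose w hw using fun i => h (v i)
    exact ⟨w, _root_.funext hw⟩
  obtain ⟨T, hT⟩ := Module.FinitePresentation.fg_ker ((p.restrictScalars P).comp c) (hp.comp hc)
  refine Module.finitePresentation_of_surjective p hp ⟨T.image c, le_antisymm (Submodule.span_le.mpr fun x hx => ?_) fun v hv => ?_⟩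
  · obtain ⟨w, hw, rfl⟩ := Finset.mem_image.mp (Finset.mem_coe.mp hx)
    exact LinearMap.mem_ker.mp (hT.le (Submodule.subset_span hw))
  · obtain ⟨w, rfl⟩ := hc v
    have hw : w ∈ Submodule.span P (T : Set (Fin s → P)) := hT.ge hv
    rw [Finset.coe_image]
    have h2 : c w ∈ (Submodule.span P (T : Set (Fin s → P))).map c := ⟨w, hw, rfl⟩
    rw [Submodule.map_span] at h2
    exact Submodule.span_le_restrictScalars P S _ h2

/-- Finitely generated submodules of finitely presented modules over finitely presented algebras
over a Prüfer domain are finitely presented. -/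
theorem finitePresentation_submodule (hR : ∀ (p : Ideal R) [p.IsPrime], ValuationRing (Localization.AtPrime p))
    {S : Type u} [CommRing S] [Algebra R S] [Algebra.FinitePresentation R S]
    {N : Type u} [AddCommGroup N] [Module S N] [Module.FinitePresentation S N] (K : Submodule S N) (hK : K.FG) :
    Module.FinitePresentation S K := by
  classical
  obtain ⟨n, φ, hφ, hker⟩ := (inferInstance : Algebra.FinitePresentation R S).out
  let P := MvPolynomial (Fin n) R
  letI : Algebra P S := φ.toRingHom.toAlgebra
  letI : Module P N := Module.compHom N φ.toRingHom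
  haveI : IsScalarTower P S N := IsScalarTower.of_algebraMap_smul fun _ _ => rfl
  haveI : Module.FinitePresentation P S :=
    Module.finitePresentation_of_surjective (Algebra.linearMap P S) hφ (by
      rw [show LinearMap.ker (Algebra.linearMap P S) = RingHom.ker φ.toRingHom from by ext x; rfl]
      exact hker)
  haveI : Module.FinitePresentation P N := Module.FinitePresentation.trans P N S
  haveI : Module.Finite P N := inferInstance
  obtain ⟨r, pr, hpr⟩ := Module.Finite.exists_fin' P N
  have hL := Module.FinitePresentation.fg_ker pr hpr
  let K₀ : Submodule P N := K.restrictScalars P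
  have hK₀ : K₀.FG := Submodule.FG.restrictScalars_of_surjective hK hφ
  let K' : Submodule P (Fin r → P) := K₀.comap pr
  have hK' : K'.FG := Submodule.fg_of_fg_map_of_fg_inf_ker pr
    (by rw [Submodule.map_comap_eq_of_surjective hpr]; exact hK₀)
    (by rw [inf_eq_right.mpr (LinearMap.ker_le_comap (f := pr) (p := K₀))]; exact hL)
  haveI hfp' : Module.FinitePresentation P K' := by
    haveI : Module.Finite P K' := Module.Finite.iff_fg.mpr hK'
    obtain ⟨s, p, hp⟩ := Module.Finite.exists_fin' P K'
    refine Module.finitePresentation_of_surjective p hp (EtStruct.PruferCoherent.fg_of_saturated R hR _ fun a ha v hv => ?_)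
    rw [LinearMap.mem_ker, map_smul] at hv
    refine LinearMap.mem_ker.mpr (Subtype.ext (_root_.funext fun i => ?_))
    have h1 := congrArg (fun y : K' => (y : Fin r → P) i) hv
    simp only [Submodule.coe_smul, Pi.smul_apply, smul_eq_mul] at h1
    exact (mul_eq_zero.mp h1).resolve_left fun h => ha (C_eq_zero.mp h)
  let q : K' →ₗ[P] K₀ := pr.restrict fun x hx => hx
  have hq : Function.Surjective q := fun ⟨y, hy⟩ => by
    obtain ⟨x, rfl⟩ := hpr y
    exact ⟨⟨x, hy⟩, rfl⟩
  haveI : Module.FinitePresentation P K₀ := Module.finitePresentation_of_surjective q hq (by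
    refine Submodule.fg_of_fg_map_injective K'.subtype Subtype.val_injective ?_
    rw [show (LinearMap.ker q).map K'.subtype = LinearMap.ker pr from ?_]
    · exact hL
    ext x
    refine ⟨?_, fun hx => ?_⟩
    · rintro ⟨y, hy, rfl⟩
      exact LinearMap.mem_ker.mpr (congrArg Subtype.val (LinearMap.mem_ker.mp hy))
    · refine ⟨⟨x, ?_⟩, LinearMap.mem_ker.mpr (Subtype.ext (LinearMap.mem_ker.mp hx)), rfl⟩
      show pr x ∈ K₀
      rw [LinearMap.mem_ker.mp hx]
      exact zero_mem _)
  haveI : Module.FinitePresentation P K := Module.FinitePresentation.of_equiv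
    ({ toFun := fun x => ⟨x.1, x.2⟩
       invFun := fun x => ⟨x.1, x.2⟩
       left_inv := fun _ => rfl
       right_inv := fun _ => rfl
       map_add' := fun _ _ => rfl
       map_smul' := fun _ _ => rfl } : K₀ ≃ₗ[P] K)
  exact finitePresentation_of_surjective_algebraMap hφ

/-- A flat quotient of a finitely presented algebra over a Prüfer domain is a finitely presented
module over it. -/
theorem finitePresentation_of_flat_quotient (hR : ∀ (p : Ideal R) [p.IsPrime], ValuationRing (Localization.AtPrime p))
    {S T : Type u} [CommRing S] [CommRing T] [Algebra R S] [Algebra.FinitePresentation R S] [Algebra R T]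
    [Algebra S T] [IsScalarTower R S T] (hsurj : Function.Surjective (algebraMap S T)) [Module.Flat R T] :
    Module.FinitePresentation S T := by
  classical
  obtain ⟨n, φ, hφ, hker⟩ := (inferInstance : Algebra.FinitePresentation R S).out
  let P := MvPolynomial (Fin n) R
  let g : P →ₐ[R] T := (IsScalarTower.toAlgHom R S T).comp φ
  have htors : Submodule.torsion R T = ⊥ := Module.Flat.torsion_eq_bot
  let e : (Fin 1 → P) ≃ₗ[P] P := LinearEquiv.funUnique (Fin 1) P P
  have hJ : (RingHom.ker g.toRingHom).FG := by
    have h := EtStruct.PruferCoherent.fg_of_saturated R hR (Submodule.comap e.toLinearMap (RingHom.ker g.toRingHom))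
      fun a ha v hv => by
        rw [Submodule.mem_comap, map_smul, smul_eq_mul] at hv
        show g (e v) = 0
        have h1 : g (C a * e v) = 0 := hv
        rw [map_mul, show g (C a) = algebraMap R T a from g.commutes a, ← Algebra.smul_def] at h1
        have h2 : g (e v) ∈ Submodule.torsion R T :=
          (Submodule.mem_torsion_iff _).mpr ⟨⟨a, mem_nonZeroDivisors_of_ne_zero ha⟩, h1⟩
        rwa [htors] at h2
    have h' := h.map e.toLinearMap
    rwa [Submodule.map_comap_eq_of_surjective e.surjective] at h'
  refine Module.finitePresentation_of_surjective (Algebra.linearMap S T) hsurj ?_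
  have h2 : (RingHom.ker (algebraMap S T)) = (RingHom.ker g.toRingHom).map φ.toRingHom := by
    rw [show RingHom.ker g.toRingHom = (RingHom.ker (algebraMap S T)).comap φ.toRingHom from rfl,
      Ideal.map_comap_of_surjective φ.toRingHom hφ]
  rw [show LinearMap.ker (Algebra.linearMap S T) = RingHom.ker (algebraMap S T) from by ext x; rfl, h2]
  exact hJ.map φ.toRingHom

end Groth.Agent.PruferSerre
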