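import Groth.Agent.PruferSerre.Alg
import Groth.Agent.ProjTwist.Pn.Twist
import Groth.Agent.ProperFin.PnBase
import Groth.Agent.ProperFin.FiniteMap
import Groth.Agent.ProperFin.Descend
import Groth.Agent.KFlat.ProjFormulaClosed
import Groth.Agent.Props.QFP
import Groth.Agent.MonoVal.Immersion
import Groth.Agent.PicCl.Basic
import Groth.Agent.S0012

/-! Serre vanishing on flat closed subschemes of projective space over a Prüfer domain. -/

open CategoryTheory CategoryTheory.Limits AlgebraicGeometry TopologicalSpace Opposite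

universe u

noncomputable section

namespace Groth.Agent.PruferSerre

open Twist ProjTwist ProjTwist.Pn

variable {n : ℕ} {R : Type u} [CommRing R]

theorem locallyOfFinitePresentation_toSpec (n : ℕ) (R : Type u) [CommRing R] :
    LocallyOfFinitePresentation (CohB1.ProjSpace.toSpec n R) := by
  let φ : ULift.{u} ℤ →+* R := (Int.castRingHom R).comp ULift.ringEquiv.toRingHom
  have : IsNoetherianRing (ULift.{u} ℤ) :=
    isNoetherianRing_of_ringEquiv ℤ ULift.ringEquiv.symm
  have := locallyOfFiniteType_toSpec n (ULift.{u} ℤ)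
  exact MorphismProperty.of_isPullback (P := @LocallyOfFinitePresentation) (ProperFin.isPullback_pnMap n φ)
    (MonoVal.locallyOfFinitePresentation_of_lft _)

variable (n R)

/-- The structure map `R → Γ(P, W)`. -/
def structHom (W : (CohB1.ProjSpace n R).Opens) : R →+* Γ(CohB1.ProjSpace n R, W) :=
  ((Scheme.ΓSpecIso (CommRingCat.of R)).inv ≫ (CohB1.ProjSpace.toSpec n R).appLE ⊤ W le_top).hom

theorem structHom_finitePresentation {W : (CohB1.ProjSpace n R).Opens} (hW : IsAffineOpen W) :
    (structHom n R W).FinitePresentation := by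
  have := locallyOfFinitePresentation_toSpec n R
  have h := HasRingHomProperty.appLE (P := @LocallyOfFinitePresentation) (CohB1.ProjSpace.toSpec n R)
    inferInstance ⟨⊤, isAffineOpen_top _⟩ ⟨W, hW⟩ le_top
  rw [structHom, CommRingCat.hom_comp]
  exact RingHom.FinitePresentation.comp h
    (RingHom.FinitePresentation.of_bijective (ConcreteCategory.bijective_of_isIso (Scheme.ΓSpecIso (CommRingCat.of R)).inv))

variable {n R}

/-- Quasi-coherent and finitely presented on the standard opens. -/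
def Good (G : (CohB1.ProjSpace n R).Modules) : Prop :=
  Coh.IsQCoh G ∧ ∀ i, Module.FinitePresentation Γ(CohB1.ProjSpace n R, stdOpen n R i) Γ(G, stdOpen n R i)

theorem Good.isCoh {G : (CohB1.ProjSpace n R).Modules} (hG : Good G) : Coh.IsCoh G := by
  refine ⟨hG.1, ?_⟩
  have := hG.1
  refine QCoh.isFiniteType_of_forall_exists _ fun x => ?_
  obtain ⟨i, hi⟩ := Opens.mem_iSup.mp
    ((iSup_stdOpen n R).ge (trivial : x ∈ (⊤ : (CohB1.ProjSpace n R).Opens)))
  have := hG.2 i
  exact ⟨stdOpen n R i, isAffineOpen_stdOpen n R i, hi, inferInstance⟩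

theorem good_twist (d : ℤ) : Good (twistProjSpace n R d) := by
  refine ⟨isQCoh_twistProjSpace n R d, fun i => ?_⟩
  have hU : ∀ y : stdOpen n R i, (MvPolynomial.X i : MvPolynomial (Fin (n + 1)) R) ∉
      (show ProjectiveSpectrum (CohB1.polyGrading n R) from y.1).asHomogeneousIdeal :=
    fun y => not_mem_of_le_basicOpen (le_refl _) y
  let u : Γ(twistProjSpace n R d, stdOpen n R i) :=
    show sectN (𝒜 := CohB1.polyGrading n R) d (op (stdOpen n R i)) from
      unitSec (X_mem_polyGrading n R i) d (op (stdOpen n R i)) hU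
  exact Module.FinitePresentation.of_equiv (LinearEquiv.ofBijective
    (LinearMap.toSpanSingleton Γ(CohB1.ProjSpace n R, stdOpen n R i) _ u)
    (bijective_smul_unitSec (X_mem_polyGrading n R i) d (op (stdOpen n R i)) hU))

theorem good_sigma {κ : Type u} [Finite κ] (F : κ → (CohB1.ProjSpace n R).Modules)
    (hF : ∀ j, Good (F j)) : Good (∐ F) := by
  classical
  have := fun j => (hF j).1
  refine ⟨QCoh.isQuasicoherent_coproduct F, fun i => ?_⟩
  set U := stdOpen n R i
  cases nonempty_fintype κ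
  have := fun j => (hF j).2 i
  let e := biproduct.isoCoproduct F
  have hι : ∀ j, Sigma.ι F j = biproduct.ι F j ≫ e.hom := fun j => by
    have h1 := biproduct.isoCoproduct_inv (f := F)
    rw [← Iso.comp_inv_eq e, h1, Sigma.ι_desc]
  have htot : (∑ j, (e.inv ≫ biproduct.π F j) ≫ Sigma.ι F j) = 𝟙 (∐ F) := by
    simp only [hι, Category.assoc]
    rw [← Preadditive.comp_sum]
    simp only [← Category.assoc]
    rw [← Preadditive.sum_comp, CohLin.total_eq, Category.id_comp, e.inv_hom_id]
  let s : ((j : κ) → Γ(F j, U)) →ₗ[Γ(CohB1.ProjSpace n R, U)] Γ(∐ F, U) :=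
    ∑ j, ({ toFun := (Sigma.ι F j).app U
            map_add' := map_add _
            map_smul' := fun r x => Scheme.Modules.Hom.app_smul _ _ _ } :
        Γ(F j, U) →ₗ[Γ(CohB1.ProjSpace n R, U)] Γ(∐ F, U)).comp (LinearMap.proj j)
  let r : Γ(∐ F, U) →ₗ[Γ(CohB1.ProjSpace n R, U)] ((j : κ) → Γ(F j, U)) :=
    LinearMap.pi fun j =>
      { toFun := (e.inv ≫ biproduct.π F j).app U
        map_add' := map_add _
        map_smul' := fun r x => Scheme.Modules.Hom.app_smul _ _ _ }
  have hsr : ∀ x, s (r x) = x := fun x => by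
    let φ : (∐ F ⟶ ∐ F) →+ Γ(∐ F, U) := AddMonoidHom.mk' (fun f => f.app U x) fun _ _ => rfl
    have h2 := congrArg φ htot
    rw [map_sum] at h2
    refine Eq.trans ?_ h2
    simp only [s, LinearMap.coe_sum, Finset.sum_apply, LinearMap.comp_apply, LinearMap.proj_apply]
    rfl
  have hs : Function.Surjective s := fun x => ⟨r x, hsr x⟩
  refine Module.finitePresentation_of_surjective s hs ?_
  have hker : LinearMap.ker s = LinearMap.range (LinearMap.id - r.comp s) := le_antisymm
    (fun x hx => ⟨x, by simp [LinearMap.mem_ker.mp hx]⟩)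
    (by rintro _ ⟨x, rfl⟩; simp [hsr])
  rw [hker, ← Submodule.map_top]
  exact (Module.Finite.fg_top (R := Γ(CohB1.ProjSpace n R, U)) (M := (j : κ) → Γ(F j, U))).map _

variable [IsDomain R]

theorem good_X₁ (hR : ∀ (p : Ideal R) [p.IsPrime], ValuationRing (Localization.AtPrime p))
    {S : ShortComplex (CohB1.ProjSpace n R).Modules} (hS : S.ShortExact) (h₁ : Coh.IsQCoh S.X₁)
    (h₂ : Good S.X₂) (h₃ : Good S.X₃) : Good S.X₁ := by
  refine ⟨h₁, fun i => ?_⟩
  set U := stdOpen n R i
  have hU : IsAffineOpen U := isAffineOpen_stdOpen n R i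
  letI : Algebra R Γ(CohB1.ProjSpace n R, U) := (structHom n R U).toAlgebra
  haveI : Algebra.FinitePresentation R Γ(CohB1.ProjSpace n R, U) := structHom_finitePresentation n R hU
  have := h₂.2 i
  have := h₃.2 i
  have := h₁
  have := h₂.1
  have := hS.mono_f
  let f : Γ(S.X₁, U) →ₗ[Γ(CohB1.ProjSpace n R, U)] Γ(S.X₂, U) :=
    { toFun := S.f.app U
      map_add' := map_add _
      map_smul' := fun r x => Scheme.Modules.Hom.app_smul _ _ _ }
  let g : Γ(S.X₂, U) →ₗ[Γ(CohB1.ProjSpace n R, U)] Γ(S.X₃, U) :=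
    { toFun := S.g.app U
      map_add' := map_add _
      map_smul' := fun r x => Scheme.Modules.Hom.app_smul _ _ _ }
  have hg : Function.Surjective g := QCoh.app_surjective_of_shortExact hU S hS
  have hrange : LinearMap.range f = LinearMap.ker g := le_antisymm
    (by rintro _ ⟨y, rfl⟩; exact QCoh.app_app_eq_zero S U y)
    (fun x hx => QCoh.exists_app_eq_of_app_eq_zero S hS.exact U x hx)
  have hK : (LinearMap.ker g).FG := Module.FinitePresentation.fg_ker g hg
  have := finitePresentation_submodule R hR (LinearMap.ker g) hK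
  exact Module.FinitePresentation.of_equiv
    ((LinearEquiv.ofInjective f (QCoh.app_injective_of_mono S.f U)).trans (LinearEquiv.ofEq _ _ hrange)).symm

/-- Serre vanishing on `P^n` over a Prüfer domain. -/
theorem serre_vanishing (hR : ∀ (p : Ideal R) [p.IsPrime], ValuationRing (Localization.AtPrime p))
    (F : (CohB1.ProjSpace n R).Modules) (hF : Good F) :
    ∃ d₀ : ℤ, ∀ d : ℤ, d₀ ≤ d → ∀ p : ℕ, 0 < p →
      Subsingleton (Coh.HH (CohB1.ProjSpace n R) (twF F d) p) := by
  suffices H : ∀ k, ∀ F : (CohB1.ProjSpace n R).Modules, Good F →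
      ∃ d₀ : ℤ, ∀ d : ℤ, d₀ ≤ d → ∀ p : ℕ, 0 < p → n + 1 ≤ p + k →
        Subsingleton (Coh.HH (CohB1.ProjSpace n R) (twF F d) p) by
    obtain ⟨d₀, h⟩ := H (n + 1) F hF
    exact ⟨d₀, fun d hd p hp => h d hd p hp (by omega)⟩
  intro k
  induction k with
  | zero => exact fun F hF => ⟨0, fun d _ p _ hp => subsingleton_above _ (isQCoh_tw F hF.1 d) p (by omega)⟩
  | succ k ih =>
    intro F hF
    obtain ⟨κ, hκ, e, φ, hφ⟩ := exists_epi_of_cover (𝒜 := CohB1.polyGrading n R) F hF.isCoh one_pos
      (fun i => MvPolynomial.X i) (X_mem_polyGrading n R) (iSup_stdOpen n R)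
    let ψ : (∐ fun j => twistProjSpace n R (-(e j : ℤ))) ⟶ F := φ
    have : Epi ψ := hφ
    have hE : Good (∐ fun j => twistProjSpace n R (-(e j : ℤ))) := good_sigma _ fun j => good_twist _
    have hS := shortExact_kernel ψ
    have hK : Good (kernel ψ) := good_X₁ hR hS (by
      have := hE.1
      have := hF.1
      exact QCoh.isQuasicoherent_kernel ψ) hE hF
    obtain ⟨d₁, h₁⟩ := ih (kernel ψ) hK
    obtain ⟨M, hM⟩ := (Set.finite_range e).bddAbove
    refine ⟨max d₁ M, fun d hd p hp hpk => ?_⟩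
    let S := ShortComplex.mk (kernel.ι ψ) ψ (kernel.condition ψ)
    have h2 : Subsingleton (Coh.HH (CohB1.ProjSpace n R) (S.map (twFun n R d)).X₂ p) := by
      have hj : ∀ j, Subsingleton (Coh.HH (CohB1.ProjSpace n R)
          (twF (twistProjSpace n R (-(e j : ℤ))) d) p) := fun j => by
        obtain ⟨q, rfl⟩ := Nat.exists_eq_add_of_le' hp
        have := hM ⟨j, rfl⟩
        have := subsingleton_twist (n := n) (R := R) (-(e j : ℤ) + d) q (Or.inr (by omega))
        exact subsingleton_of_iso (nonempty_twistProjSpace_tensor n R (-(e j : ℤ)) d).some.symm (q + 1)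
      show Subsingleton (Coh.HH (CohB1.ProjSpace n R) (twF (∐ fun j => twistProjSpace n R (-(e j : ℤ))) d) p)
      have := CohLin.subsingleton_sigma (fun j => twF (twistProjSpace n R (-(e j : ℤ))) d) p
      exact subsingleton_of_iso (twSigma _ d).symm p
    have h3 : Subsingleton (Coh.HH (CohB1.ProjSpace n R) (S.map (twFun n R d)).X₁ (p + 1)) :=
      h₁ d (le_of_max_le_left hd) (p + 1) (Nat.succ_pos p) (by omega)
    exact CohLin.subsingleton_X₃ (shortExact_tw hS d)

/-- Powers of `O(1)` are `O(d)`. -/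
theorem nonempty_tensorPow_twist (d : ℕ) :
    Nonempty (CohB1.tensorPow (twistProjSpace n R 1) d ≅ twistProjSpace n R d) := by
  induction d with
  | zero => exact ⟨twistZeroIso (CohB1.polyGrading n R)⟩
  | succ d ih =>
    exact ⟨tensCongr ih.some (Iso.refl _) ≪≫ (nonempty_twistProjSpace_tensor n R d 1).some ≪≫
      eqToIso (by push_cast; rfl)⟩

theorem nonempty_tensorPow_pullback {X Y : Scheme.{u}} (f : X ⟶ Y) (L : Y.Modules) (d : ℕ) :
    Nonempty (CohB1.tensorPow ((Scheme.Modules.pullback f).obj L) d ≅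
      (Scheme.Modules.pullback f).obj (CohB1.tensorPow L d)) := by
  induction d with
  | zero => exact ⟨(QCoh.pullbackUnitIso f).symm⟩
  | succ d ih => exact ⟨tensCongr ih.some (Iso.refl _) ≪≫ (KFlat.PullTensor.pullTensorIso f (CohB1.tensorPow L d) L).symm⟩

variable {X : Scheme.{u}} (ι : X ⟶ CohB1.ProjSpace n R)

theorem nonempty_pow_iso (d : ℕ) :
    Nonempty (CohB1.tensorPow ((Scheme.Modules.pullback ι).obj (twistProjSpace n R 1)) d ≅
      (Scheme.Modules.pullback ι).obj (twistProjSpace n R d)) :=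
  ⟨(nonempty_tensorPow_pullback ι _ d).some ≪≫
    (Scheme.Modules.pullback ι).mapIso (nonempty_tensorPow_twist (n := n) (R := R) d).some⟩

variable [IsClosedImmersion ι]

/-- The push forward of a finitely presented module from a flat closed subscheme is good. -/
theorem good_push (hR : ∀ (p : Ideal R) [p.IsPrime], ValuationRing (Localization.AtPrime p))
    [Flat (ι ≫ CohB1.ProjSpace.toSpec n R)] (F : X.Modules) (hF : CohB1.IsFP F) :
    Good ((Coh.push ι).obj F) := by
  have : SheafOfModules.IsFinitePresentation.{u} F := hF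
  obtain ⟨σ, -⟩ := SheafOfModules.IsFinitePresentation.exists_quasicoherentData.{u} F
  have hFq : Coh.IsQCoh F := σ.isQuasicoherent
  have : F.IsQuasicoherent := hFq
  refine ⟨QCoh.isQuasicoherent_pushforward ι F, fun i => ?_⟩
  set W := stdOpen n R i
  have hW : IsAffineOpen W := isAffineOpen_stdOpen n R i
  have hV : IsAffineOpen (ι ⁻¹ᵁ W) := hW.preimage ι
  have hFP := Props.QFP.finitePresentation_sections_of_isFP F hV
  let P := CohB1.ProjSpace n R
  letI : Algebra R Γ(P, W) := (structHom n R W).toAlgebra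
  haveI : Algebra.FinitePresentation R Γ(P, W) := structHom_finitePresentation n R hW
  letI : Algebra Γ(P, W) Γ(X, ι ⁻¹ᵁ W) := (ι.app W).hom.toAlgebra
  letI : Algebra R Γ(X, ι ⁻¹ᵁ W) := ((ι.app W).hom.comp (structHom n R W)).toAlgebra
  haveI : IsScalarTower R Γ(P, W) Γ(X, ι ⁻¹ᵁ W) := IsScalarTower.of_algebraMap_eq' rfl
  have hflat : Module.Flat R Γ(X, ι ⁻¹ᵁ W) := by
    have h := HasRingHomProperty.appLE (P := @Flat) (ι ≫ CohB1.ProjSpace.toSpec n R) inferInstance
      ⟨⊤, isAffineOpen_top _⟩ ⟨ι ⁻¹ᵁ W, hV⟩ le_top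
    have h2 : ((ι.app W).hom.comp (structHom n R W)).Flat := by
      have e : (ι.app W).hom.comp (structHom n R W) =
          ((ι ≫ CohB1.ProjSpace.toSpec n R).appLE ⊤ (ι ⁻¹ᵁ W) le_top).hom.comp
            (Scheme.ΓSpecIso (CommRingCat.of R)).inv.hom := by
        rw [structHom, ← CommRingCat.hom_comp, ← CommRingCat.hom_comp, Category.assoc,
          Scheme.Hom.app_eq_appLE, Scheme.Hom.appLE_comp_appLE]
      rw [e]
      exact RingHom.Flat.comp (RingHom.Flat.of_bijective
        (ConcreteCategory.bijective_of_isIso (Scheme.ΓSpecIso (CommRingCat.of R)).inv)) h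
    exact h2
  have := finitePresentation_of_flat_quotient R hR (S := Γ(P, W)) (T := Γ(X, ι ⁻¹ᵁ W))
    (ι.app_surjective W hW)
  let : Module Γ(P, W) Γ(F, ι ⁻¹ᵁ W) := Module.compHom _ (ι.app W).hom
  have : IsScalarTower Γ(P, W) Γ(X, ι ⁻¹ᵁ W) Γ(F, ι ⁻¹ᵁ W) :=
    ⟨fun a b x => mul_smul ((ι.app W).hom a) b x⟩
  exact Module.FinitePresentation.trans Γ(P, W) Γ(F, ι ⁻¹ᵁ W) Γ(X, ι ⁻¹ᵁ W)

/-- Vanishing on the closed subscheme. -/
theorem vanishing (hR : ∀ (p : Ideal R) [p.IsPrime], ValuationRing (Localization.AtPrime p))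
    (F : X.Modules) (hFq : Coh.IsQCoh F) (hF : Good ((Coh.push ι).obj F)) :
    ∃ N : ℕ, ∀ d : ℕ, N ≤ d → ∀ q : ℕ, 0 < q →
      Subsingleton (Coh.HH X (CohB1.tensorMod F ((Scheme.Modules.pullback ι).obj (twistProjSpace n R d))) q) := by
  obtain ⟨d₀, h⟩ := serre_vanishing hR _ hF
  refine ⟨d₀.toNat, fun d hd q hq => ?_⟩
  have : Coh.IsQCoh (twistProjSpace n R d) := isQCoh_twistProjSpace n R d
  have : F.IsQuasicoherent := hFq
  have : Coh.IsQCoh (CohB1.tensorMod F ((Scheme.Modules.pullback ι).obj (twistProjSpace n R d))) :=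
    LimTop.TensorQC.isQuasicoherent_tensM F _
  have h1 := h d (by omega) q hq
  let e : (Coh.push ι).obj (CohB1.tensorMod F ((Scheme.Modules.pullback ι).obj (twistProjSpace n R d))) ≅
      twF ((Coh.push ι).obj F) d := KFlat.ProjFormulaClosed.θIso ι F (twistProjSpace n R d)
  have h2 : Subsingleton (Coh.HH (CohB1.ProjSpace n R)
      ((Coh.push ι).obj (CohB1.tensorMod F ((Scheme.Modules.pullback ι).obj (twistProjSpace n R d)))) q) :=
    (CohLin.hIso e q).toEquiv.subsingleton
  exact (Groth.Agent.S0012.result ι _ q).some.toEquiv.subsingleton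

theorem subsingleton_pow (hR : ∀ (p : Ideal R) [p.IsPrime], ValuationRing (Localization.AtPrime p))
    [Flat (ι ≫ CohB1.ProjSpace.toSpec n R)] (F : X.Modules) (hF : CohB1.IsFP F) :
    ∃ N : ℕ, ∀ d : ℕ, N ≤ d → ∀ q : ℕ, 1 ≤ q →
      Subsingleton (Coh.HH X (CohB1.tensorMod F (CohB1.tensorPow
        ((Scheme.Modules.pullback ι).obj (twistProjSpace n R 1)) d)) q) := by
  have : SheafOfModules.IsFinitePresentation.{u} F := hF
  obtain ⟨σ, -⟩ := SheafOfModules.IsFinitePresentation.exists_quasicoherentData.{u} F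
  obtain ⟨N, hN⟩ := vanishing ι hR F σ.isQuasicoherent (good_push ι hR F hF)
  refine ⟨N, fun d hd q hq => ?_⟩
  have := hN d hd q hq
  exact (CohLin.hIso (tensCongr (Iso.refl F) (nonempty_pow_iso ι d).some) q).toEquiv.subsingleton

theorem surjective_pow (hR : ∀ (p : Ideal R) [p.IsPrime], ValuationRing (Localization.AtPrime p))
    [Flat (ι ≫ CohB1.ProjSpace.toSpec n R)] (F G : X.Modules) (hF : CohB1.IsFP F) (hG : CohB1.IsFP G)
    (φ : F ⟶ G) [Epi φ] :
    ∃ N : ℕ, ∀ d : ℕ, N ≤ d → Function.Surjective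
      ((((DCoh.tensorBi (X := X)).map φ).app (CohB1.tensorPow
        ((Scheme.Modules.pullback ι).obj (twistProjSpace n R 1)) d)).app ⊤) := by
  have : SheafOfModules.IsFinitePresentation.{u} F := hF
  have : SheafOfModules.IsFinitePresentation.{u} G := hG
  obtain ⟨σ, -⟩ := SheafOfModules.IsFinitePresentation.exists_quasicoherentData.{u} F
  obtain ⟨τ, -⟩ := SheafOfModules.IsFinitePresentation.exists_quasicoherentData.{u} G
  have : F.IsQuasicoherent := σ.isQuasicoherent
  have : G.IsQuasicoherent := τ.isQuasicoherent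
  have hS := shortExact_kernel φ
  have hKq : Coh.IsQCoh (kernel φ) := QCoh.isQuasicoherent_kernel φ
  have : Epi ((Coh.push ι).map φ) := inferInstance
  have hK : Good ((Coh.push ι).obj (kernel φ)) :=
    good_X₁ hR (S := (ShortComplex.mk (kernel.ι φ) φ (kernel.condition φ)).map (Coh.push ι))
      (hS.map_of_exact (Coh.push ι))
      (have : (kernel φ).IsQuasicoherent := hKq; QCoh.isQuasicoherent_pushforward ι (kernel φ))
      (good_push ι hR F hF) (good_push ι hR G hG)
  obtain ⟨N, hN⟩ := vanishing ι hR (kernel φ) hKq hK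
  refine ⟨N, fun d hd => ?_⟩
  let L := (Scheme.Modules.pullback ι).obj (twistProjSpace n R d)
  let e := (nonempty_pow_iso ι d).some
  let ψ := ((DCoh.tensorBi (X := X)).map φ).app L
  have hψ : Function.Surjective (ψ.app ⊤) := by
    have hL : PicF.IsInvertible L := PicCl.isInvertible_pullback ι (isInvertible_twistProjSpace n R d)
    have hS' := shortExact_tensor hL hS
    have := hN d hd 1 one_pos
    intro y
    obtain ⟨x, hx⟩ := CohLin.exists_hMap_g_eq hS' ((ProperFin.h0Sec _).symm y) (Subsingleton.elim (α := Coh.HH X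
      (CohB1.tensorMod (kernel φ) L) 1) _ _)
    refine ⟨ProperFin.h0Sec _ x, ?_⟩
    have h2 := congrArg (ProperFin.h0Sec _) hx
    rw [ProperFin.h0Sec_hMap, AddEquiv.apply_symm_apply] at h2
    exact h2
  intro y
  obtain ⟨x, hx⟩ := hψ ((((DCoh.tensorBi (X := X)).obj G).map e.hom).app ⊤ y)
  refine ⟨(((DCoh.tensorBi (X := X)).obj F).map e.inv).app ⊤ x, ?_⟩
  have hnat := congrArg (fun f => f.app ⊤ x) (((DCoh.tensorBi (X := X)).map φ).naturality e.inv)
  simp only [Scheme.Modules.Hom.comp_app, ConcreteCategory.comp_apply] at hnat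
  refine hnat.trans ?_
  rw [show (((DCoh.tensorBi (X := X)).map φ).app L).app ⊤ x = _ from hx, ← ConcreteCategory.comp_apply,
    ← Scheme.Modules.Hom.comp_app, ← Functor.map_comp, e.hom_inv_id, CategoryTheory.Functor.map_id]
  rfl

end Groth.Agent.PruferSerre
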